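import Cfsg.Agent.Lib.CosetEnum.Defs

/-! Generated table data. -/

set_option autoImplicit false
set_option maxRecDepth 20000

namespace Cfsg.Lib.CosetEnum.Y5Chain4

/-- Table data. -/
def tabC_0_0 : Tab :=
  (.node 15 (.node 7 (.node 3 (.node 1 (.leaf 0x4000000000000000f) (.node 1 (.leaf 0x40000000000000010) (.leaf 0x40000000000000011))) (.node 2 (.node 1 (.leaf 0x40000000000000012) (.leaf 0x1000000000000000240000200000000006)) (.node 1 (.leaf 0x10000000000b000000000010000000000c) (.leaf 0x10000040000e000004000010000040000a)))) (.node 4 (.node 2 (.node 1 (.leaf 0x10000000000c000000000010000000000d) (.leaf 0x100000400010000004000010000040000b)) (.node 1 (.leaf 0x10000100000500000c0000200000c0000e) (.leaf 0x100000800001000008000010000340000300000400005))) (.node 2 (.node 1 (.leaf 0x100000c0000300004c0000200000c0000a) (.leaf 0x10000100000400004c0000200000c0000b)) (.node 1 (.leaf 0x100004800012000054000020000140000a) (.leaf 0x100001c00006000058000070000180000200001800005))))) (.node 8 (.node 4 (.node 2 (.node 1 (.leaf 0x10000200000800005c0000200002000006) (.leaf 0x100000c0000200003c000030000080000200000800007)) (.node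 1 (.leaf 0x100001000002000044000040000080000200000800008) (.leaf 0x100001800012000018000120000680000300001400007))) (.node 2 (.node 1 (.leaf 0x100001c0001b00001c0000100001c0000a) (.leaf 0x10000200001c000020000010000200000c)) (.node 1 (.leaf 0x100001800005000018000050000640000300001000008) (.leaf 0x100001c0001e00001c0000100001c0000b)))) (.node 4 (.node 2 (.node 1 (.leaf 0x10000200001f000020000010000200000d) (.leaf 0x100000400000000004000000000280000300000000009)) (.node 1 (.leaf 0x1000008000210000080000100000800006) (.leaf 0x100000c000030000880000200000c0000c))) (.node 2 (.node 1 (.leaf 0x1000010000040000880000200000c0000d) (.leaf 0x100004800012000090000020000140000c)) (.node 1 (.leaf 0x1000018000250000180000100001800006) (.leaf 0x1000020000070000980000800001c0000200001c00009))))))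

/-- Table data. -/
def tabC_0 : Tab :=
  tabC_0_0

end Cfsg.Lib.CosetEnum.Y5Chain4
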