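import Cfsg.Agent.Lib.CosetEnum.Defs

/-! Generated table data. -/

set_option autoImplicit false
set_option maxRecDepth 20000

namespace Cfsg.Lib.CosetEnum.Y5Chain4

/-- Table data. -/
def tabF_0_0 : Tab :=
  (.leaf 0x480001210000000000380000e20000000000300000c20000000000280000a20000000000200000820000000000180000620000000000100000420000000000480001290000000000400001090000000000380000e90000000000480001260000000000400001060000000000380000e60000000000280000a00000000000200000800000000000480001200000000000400001000000000000300000c10000000000280000a10000000000200000810000000000180000610000000000300000a60000000000100000490000000000080000290000000000100000460000000000080000260000000000080000200000000000000000090000000000000000060000000000000000010000000000000000000000000000400001220000000000380001010000000000300000e00000000000200000c90000000000180000a9000000000018000086000000000010000060000000000008000041000000000000000022)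

/-- Table data. -/
def tabF_0 : Tab :=
  tabF_0_0

end Cfsg.Lib.CosetEnum.Y5Chain4
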